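import Mathlib

/-!
# Invariants of a finite group of invertible order: retraction, flatness, finite presentation
-/

set_option autoImplicit false
set_option linter.style.haveILetI false
universe u

namespace Groth.Agent.QuotInv1

variable (R B A G : Type u) [CommRing R] [CommRing B] [CommRing A] [Algebra R B] [Algebra R A]
  [Algebra B A] [IsScalarTower R B A] [Group G] [Finite G] [MulSemiringAction G A]
  [SMulCommClass G B A] [Algebra.IsInvariant B A G]

set_option linter.style.haveILetI false in
/-- The averaged trace is a retraction of `B ⊆ A`. -/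
theorem exists_retraction (hinj : Function.Injective (algebraMap B A))
    (hG : IsUnit ((Nat.card G : ℕ) : B)) :
    ∃ r : A →ₗ[B] B, ∀ b, r (algebraMap B A b) = b := by
  haveI := Fintype.ofFinite G
  let t : A →ₗ[B] A := ∑ g : G, DistribSMul.toLinearMap B A g
  have ht : ∀ a, t a = ∑ g : G, g • a := fun a => by simp [t]
  have hinv : ∀ a, ∃ b, algebraMap B A b = t a := fun a =>
    Algebra.IsInvariant.isInvariant (G := G) _ fun h => by
      rw [ht, Finset.smul_sum]
      simp only [smul_smul]
      exact Fintype.sum_bijective (h * ·) (Group.mulLeft_bijective h) _ _ fun g => rfl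
  choose s hs using hinv
  let s' : A →ₗ[B] B :=
    { toFun := s
      map_add' := fun x y => hinj (by simp [hs])
      map_smul' := fun c x => hinj (by rw [RingHom.id_apply, smul_eq_mul, map_mul, hs, hs, map_smul, Algebra.smul_def]) }
  refine ⟨((hG.unit⁻¹ : Bˣ) : B) • s', fun b => ?_⟩
  show ((hG.unit⁻¹ : Bˣ) : B) * s (algebraMap B A b) = b
  have : s (algebraMap B A b) = (Nat.card G : B) * b := hinj (by
    rw [hs, ht, map_mul, map_natCast]
    simp [smul_algebraMap, Nat.card_eq_fintype_card])
  rw [this, ← mul_assoc, IsUnit.val_inv_mul, one_mul]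

variable {R B A}

theorem flat_of_retraction (r : A →ₗ[B] B) (hr : ∀ b, r (algebraMap B A b) = b) [Module.Flat R A] :
    Module.Flat R B :=
  Module.Flat.of_retract ((IsScalarTower.toAlgHom R B A).toLinearMap) (r.restrictScalars R)
    (LinearMap.ext hr)

theorem finiteType_of_retraction (r : A →ₗ[B] B) (hr : ∀ b, r (algebraMap B A b) = b)
    [Algebra.IsIntegral B A] [Algebra.FiniteType R A] : Algebra.FiniteType R B := by
  classical
  obtain ⟨s, hs⟩ := Algebra.FiniteType.out (R := R) (A := A)
  let q : A → Polynomial B := fun a => minpoly B a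
  let coefs : Finset B := s.biUnion fun a => (q a).coeffs
  obtain ⟨C, hC⟩ : ∃ C : Subalgebra R B, C = Algebra.adjoin R (coefs : Set B) := ⟨_, rfl⟩
  haveI : Algebra.FiniteType R C := (Subalgebra.fg_iff_finiteType C).1 ⟨coefs, hC.symm⟩
  have hint : ∀ a ∈ s, IsIntegral C a := fun a ha => by
    have hlift : q a ∈ Polynomial.lifts (algebraMap C B) := by
      rw [Polynomial.lifts_iff_coeff_lifts]
      intro n
      by_cases h0 : (q a).coeff n = 0
      · exact ⟨0, by rw [map_zero, h0]⟩
      · exact ⟨⟨_, hC ▸ Algebra.subset_adjoin (Finset.mem_biUnion.2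
          ⟨a, ha, Polynomial.coeff_mem_coeffs h0⟩)⟩, rfl⟩
    obtain ⟨q', hq', -, hm⟩ := Polynomial.lifts_and_natDegree_eq_and_monic hlift
      (minpoly.monic (Algebra.IsIntegral.isIntegral a))
    refine ⟨q', hm, ?_⟩
    rw [← Polynomial.aeval_def, ← Polynomial.aeval_map_algebraMap (B := A) B, hq']
    exact minpoly.aeval B a
  have htop : Algebra.adjoin C (s : Set A) = ⊤ := by
    rw [eq_top_iff]
    intro a _
    have : a ∈ Algebra.adjoin R (s : Set A) := hs ▸ Algebra.mem_top
    induction this using Algebra.adjoin_induction with
    | mem x hx => exact Algebra.subset_adjoin hx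
    | algebraMap x =>
      have e : algebraMap R A x = algebraMap C A (algebraMap R C x) :=
        IsScalarTower.algebraMap_apply R B A x
      rw [e]
      exact Subalgebra.algebraMap_mem _ _
    | add x y _ _ hx hy => exact add_mem (hx trivial) (hy trivial)
    | mul x y _ _ hx hy => exact mul_mem (hx trivial) (hy trivial)
  haveI : Module.Finite C A := ⟨by
    rw [← Algebra.top_toSubmodule, ← htop]
    exact fg_adjoin_of_finite s.finite_toSet hint⟩
  haveI : Module.Finite C B :=
    Module.Finite.of_surjective (r.restrictScalars C) fun b => ⟨_, hr b⟩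
  exact Algebra.FiniteType.trans (S := C) inferInstance inferInstance

theorem finitePresentation_of_retraction (r : A →ₗ[B] B) (hr : ∀ b, r (algebraMap B A b) = b)
    [Algebra.IsIntegral B A] [Algebra.FinitePresentation R A] :
    Algebra.FinitePresentation R B ∧ Algebra.FinitePresentation B A := by
  haveI : Algebra.FiniteType R A := inferInstance
  haveI := finiteType_of_retraction (R := R) r hr
  have hBA : Algebra.FinitePresentation B A :=
    Algebra.FinitePresentation.of_restrict_scalars_finitePresentation R B A
  obtain ⟨n, f, hf⟩ := Algebra.FiniteType.iff_quotient_mvPolynomial''.1 ‹Algebra.FiniteType R B›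
  letI := f.toRingHom.toAlgebra
  letI : Algebra (MvPolynomial (Fin n) R) A := ((algebraMap B A).comp f.toRingHom).toAlgebra
  haveI : IsScalarTower (MvPolynomial (Fin n) R) B A := .of_algebraMap_eq' rfl
  haveI : IsScalarTower R (MvPolynomial (Fin n) R) A := .of_algebraMap_eq fun x => by
    show algebraMap R A x = algebraMap B A (f (algebraMap R _ x))
    rw [f.commutes, ← IsScalarTower.algebraMap_apply]
  haveI : Algebra.FinitePresentation (MvPolynomial (Fin n) R) A :=
    Algebra.FinitePresentation.of_restrict_scalars_finitePresentation R _ A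
  haveI : Algebra.FiniteType B A := Algebra.FiniteType.of_restrictScalars_finiteType R B A
  haveI : Module.Finite B A := Algebra.IsIntegral.finite (R := B) (A := A)
  haveI : Module.Finite (MvPolynomial (Fin n) R) B :=
    Module.Finite.of_surjective (Algebra.linearMap _ _) hf
  haveI : Module.Finite (MvPolynomial (Fin n) R) A := Module.Finite.trans B A
  haveI : Module.FinitePresentation (MvPolynomial (Fin n) R) A :=
    Module.FinitePresentation.of_finite_of_finitePresentation _ _
  let r' : A →ₗ[MvPolynomial (Fin n) R] B := r.restrictScalars _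
  let i' : B →ₗ[MvPolynomial (Fin n) R] A :=
    (IsScalarTower.toAlgHom (MvPolynomial (Fin n) R) B A).toLinearMap
  have hker : (LinearMap.ker r').FG := by
    have : LinearMap.ker r' = LinearMap.range (LinearMap.id - i' ∘ₗ r') := by
      ext a
      constructor
      · intro ha
        exact ⟨a, by simp [i', show r' a = 0 from ha]⟩
      · rintro ⟨c, rfl⟩
        show r' (c - algebraMap B A (r' c)) = 0
        rw [map_sub]
        exact sub_eq_zero.2 (hr _).symm
    rw [this, LinearMap.range_eq_map]
    exact Module.Finite.fg_top.map _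
  haveI : Module.FinitePresentation (MvPolynomial (Fin n) R) B :=
    Module.finitePresentation_of_surjective r' (fun b => ⟨_, hr b⟩) hker
  refine ⟨Algebra.FinitePresentation.of_surjective (f := f) hf ?_, hBA⟩
  have := Module.FinitePresentation.fg_ker (Algebra.linearMap (MvPolynomial (Fin n) R) B) hf
  exact this

end Groth.Agent.QuotInv1
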